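import Groth.Agent.FlatmorThree.GeomIrred
import Groth.Agent.PropsBasic2.SchTop
import Groth.Agent.SchemeMorphisms.Ass
import Mathlib.AlgebraicGeometry.Morphisms.Integral
import Mathlib.AlgebraicGeometry.Morphisms.UniversallyOpen
import Mathlib.FieldTheory.IsAlgClosed.AlgebraicClosure

/-!
The points over which an open subset of `G_K` contains all maximal points of the fibre form an open set.
-/

set_option autoImplicit false
set_option linter.style.haveILetI false

universe u

open CategoryTheory CategoryTheory.Limits AlgebraicGeometry TopologicalSpace Topology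

noncomputable section

namespace Groth.Sga3.MaxFibre

open Groth.PropsBasic2

theorem quasiSober_fibre {X Y : Scheme.{u}} (f : X ⟶ Y) (y : Y) : QuasiSober ↥(f.base ⁻¹' {y}) :=
  (f.fiberHomeo y).symm.isClosedEmbedding.quasiSober

theorem isOpen_setOf_maximal (k : Type u) [Field k] (K : Type u) [Field K] [Algebra k K]
    {G : Scheme.{u}} (f : G ⟶ Spec (CommRingCat.of k))
    (W : (pullback f (Spec.map (CommRingCat.ofHom (algebraMap k K)))).Opens) :
    IsOpen {g : G | ∀ z : ↥((pullback.fst f (Spec.map (CommRingCat.ofHom (algebraMap k K)))).base ⁻¹' {g}),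
      closure {z} ∈ irreducibleComponents ↥((pullback.fst f (Spec.map (CommRingCat.ofHom (algebraMap k K)))).base ⁻¹' {g}) →
        z.1 ∈ W} := by
  let kb := AlgebraicClosure k
  let L := AlgebraicClosure K
  let φ : kb →ₐ[k] L := IsAlgClosed.lift
  letI : Algebra kb L := φ.toRingHom.toAlgebra
  let aK : Spec (CommRingCat.of K) ⟶ Spec (CommRingCat.of k) := Spec.map (CommRingCat.ofHom (algebraMap k K))
  let aL : Spec (CommRingCat.of L) ⟶ Spec (CommRingCat.of K) := Spec.map (CommRingCat.ofHom (algebraMap K L))
  let b : Spec (CommRingCat.of kb) ⟶ Spec (CommRingCat.of k) := Spec.map (CommRingCat.ofHom (algebraMap k kb))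
  let bL : Spec (CommRingCat.of L) ⟶ Spec (CommRingCat.of kb) := Spec.map (CommRingCat.ofHom (algebraMap kb L))
  have hcomm : aL ≫ aK = bL ≫ b := by
    show Spec.map _ ≫ Spec.map _ = Spec.map _ ≫ Spec.map _
    rw [← Spec.map_comp, ← Spec.map_comp, ← CommRingCat.ofHom_comp, ← CommRingCat.ofHom_comp]
    congr 2
    rw [← IsScalarTower.algebraMap_eq k K L]
    exact (AlgHom.comp_algebraMap φ).symm
  let p : pullback f aK ⟶ G := pullback.fst f aK
  let r : pullback (pullback.snd f aK) aL ⟶ pullback f aK := pullback.fst _ _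
  let q : pullback f b ⟶ G := pullback.fst f b
  let π' : pullback (pullback.snd f aK) aL ⟶ pullback f b :=
    pullback.lift (r ≫ p) (pullback.snd _ _ ≫ bL) (by
      rw [Category.assoc, pullback.condition, Category.assoc, ← hcomm,
        ← Category.assoc, pullback.condition, Category.assoc])
  have hπq : π' ≫ q = r ≫ p := pullback.lift_fst _ _ _
  have Hout : IsPullback (π' ≫ q) (pullback.snd (pullback.snd f aK) aL) f (bL ≫ b) := by
    rw [hπq, ← hcomm]
    exact (IsPullback.of_hasPullback (pullback.snd f aK) aL).paste_horiz (IsPullback.of_hasPullback f aK) |>.flip.flip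
  have H : IsPullback π' (pullback.snd (pullback.snd f aK) aL) (pullback.snd f b) bL :=
    Hout.of_right (pullback.lift_snd _ _ _) (IsPullback.of_hasPullback f b)
  haveI : GeometricallyIrreducible bL :=
    Groth.FlatmorThree.geometricallyIrreducible_specMap_of_sepClosedIn kb L fun x hx =>
      minpoly.mem_range_of_degree_eq_one kb x
        (IsAlgClosed.degree_eq_one_of_irreducible kb (minpoly.irreducible hx.isIntegral))
  haveI : GeometricallyIrreducible π' := MorphismProperty.of_isPullback H.flip (inferInstanceAs (GeometricallyIrreducible bL))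
  haveI : UniversallyOpen π' := MorphismProperty.of_isPullback H.flip (inferInstanceAs (UniversallyOpen bL))
  haveI : Flat aL := by
    rw [HasRingHomProperty.Spec_iff (P := @Flat)]
    exact RingHom.flat_algebraMap_iff.2 inferInstance
  haveI : Surjective aL := ⟨fun _ => ⟨IsLocalRing.closedPoint L, Subsingleton.elim (α := PrimeSpectrum K) _ _⟩⟩
  haveI : IsIntegralHom b := by
    rw [IsIntegralHom.SpecMap_iff]
    exact algebraMap_isIntegral_iff.2 inferInstance
  have hgo : GeneralizingMap r.base := Flat.generalizingMap r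
  have key : ∀ g : G, (∀ z : ↥(p.base ⁻¹' {g}), closure {z} ∈ irreducibleComponents ↥(p.base ⁻¹' {g}) → z.1 ∈ W) ↔
      ∀ h, q.base h = g → ∃ w, π'.base w = h ∧ r.base w ∈ W := fun g => by
    haveI := quasiSober_fibre p g
    simp only [closure_mem_irreducibleComponents_iff]
    constructor
    · intro hU h hh
      haveI := quasiSober_fibre π' h
      obtain ⟨y, hy⟩ := π'.surjective h
      obtain ⟨η, hη, -⟩ := exists_genericPoint_specializes (⟨y, hy⟩ : ↥(π'.base ⁻¹' {h}))
      rw [closure_mem_irreducibleComponents_iff] at hη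
      have hπη : π'.base η.1 = h := η.2
      have hpη : p.base (r.base η.1) = g := by
        rw [← Scheme.Hom.comp_apply, ← hπq, Scheme.Hom.comp_apply, hπη, hh]
      refine ⟨η.1, hπη, hU ⟨r.base η.1, hpη⟩ fun z hz => Subtype.ext ?_⟩
      obtain ⟨η', hη', hr⟩ := hgo ((subtype_specializes_iff _ _).1 hz : z.1 ⤳ r.base η.1)
      have hh' : π'.base η' = h := Groth.SchemeMorphisms.eq_of_specializes_of_isIntegralHom q
        (hπη ▸ hη'.map π'.continuous) (by
          rw [← Scheme.Hom.comp_apply, hπq, Scheme.Hom.comp_apply, hr, hh]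
          exact z.2)
      have h2 := hη ⟨η', hh'⟩ ((subtype_specializes_iff _ _).2 hη')
      exact hr.symm.trans (congrArg r.base (congrArg Subtype.val h2))
    · intro hU z hz
      obtain ⟨y, hy⟩ := r.surjective z.1
      obtain ⟨w, hw, hwW⟩ := hU (π'.base y) (by
        rw [← Scheme.Hom.comp_apply, hπq, Scheme.Hom.comp_apply, hy]
        exact z.2)
      haveI := quasiSober_fibre π' (π'.base y)
      obtain ⟨η, hη⟩ := QuasiSober.sober (α := ↥(π'.base ⁻¹' {π'.base y})) (S := Set.univ) (by
        haveI := Subtype.irreducibleSpace (π'.isIrreducible_preimage π'.isOpenMap (isIrreducible_singleton (x := π'.base y)))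
        exact IrreducibleSpace.isIrreducible_univ _) isClosed_univ
      have hηW : r.base η.1 ∈ W :=
        ((subtype_specializes_iff _ _).1 (hη.specializes (Set.mem_univ ⟨w, hw⟩))).map r.continuous |>.mem_open W.2 hwW
      have hsp : r.base η.1 ⤳ z.1 := by
        rw [← hy]
        exact ((subtype_specializes_iff _ _).1 (hη.specializes (Set.mem_univ ⟨y, rfl⟩))).map r.continuous
      have hpη : p.base (r.base η.1) = g := by
        rw [← Scheme.Hom.comp_apply, ← hπq, Scheme.Hom.comp_apply, show π'.base η.1 = π'.base y from η.2,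
          ← Scheme.Hom.comp_apply, hπq, Scheme.Hom.comp_apply, hy]
        exact z.2
      rw [← congrArg Subtype.val (hz ⟨r.base η.1, hpη⟩ ((subtype_specializes_iff _ _).2 hsp))]
      exact hηW
  have hset : IsClosed (q.base '' (π'.base '' (r.base ⁻¹' W))ᶜ) :=
    q.isClosedMap _ (π'.isOpenMap _ (W.2.preimage r.continuous)).isClosed_compl
  convert hset.isOpen_compl using 1
  ext g
  rw [Set.mem_setOf_eq, key g]
  constructor
  · rintro hg ⟨h, hh, hhg⟩
    obtain ⟨w, hw, hwW⟩ := hg h hhg
    exact hh ⟨w, hwW, hw⟩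
  · intro hg h hh
    by_contra hne
    exact hg ⟨h, fun ⟨w, hwW, hw⟩ => hne ⟨w, hw, hwW⟩, hh⟩

theorem dense_setOf_maximal {X G : Scheme.{u}} [NoetherianSpace X] (p : X ⟶ G) (W : X.Opens) (hW : Dense (W : Set X)) :
    Dense {g : G | ∀ z : ↥(p.base ⁻¹' {g}), closure {z} ∈ irreducibleComponents ↥(p.base ⁻¹' {g}) → z.1 ∈ W} := by
  intro g
  obtain ⟨η, hη, hηg⟩ := exists_genericPoint_specializes g
  rw [closure_mem_irreducibleComponents_iff] at hη
  refine hηg.mem_closed isClosed_closure (subset_closure fun z hz => ?_)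
  haveI := quasiSober_fibre p η
  rw [closure_mem_irreducibleComponents_iff] at hz
  obtain ⟨ζ, hζ, hζz⟩ := exists_genericPoint_specializes z.1
  have hpz : p.base ζ = η := hη _ (by simpa [show p.base z.1 = η from z.2] using hζz.map p.continuous)
  have : ζ = z.1 := congrArg Subtype.val (hz ⟨ζ, hpz⟩ ((subtype_specializes_iff _ _).2 hζz))
  rw [← this]
  have hζC : closure ({ζ} : Set X) ∈ irreducibleComponents ↥X := hζ
  obtain ⟨o, ho, hne, hoC⟩ := NoetherianSpace.exists_isOpen_nonempty_subset_irreducibleComponent _ hζC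
  obtain ⟨w, hwo, hwW⟩ := hW.inter_open_nonempty o ho hne
  exact (specializes_iff_mem_closure.2 (hoC hwo)).mem_open W.2 hwW

end Groth.Sga3.MaxFibre
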